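import Mathlib.AlgebraicGeometry.Morphisms.Immersion
import Mathlib.AlgebraicGeometry.Morphisms.FiniteType
import Mathlib.AlgebraicGeometry.SpreadingOut
import Groth.Prelude.Def_SchLoc

/-!
Local immersions and local isomorphisms (EGA I 4.5, 5.5).
-/

open AlgebraicGeometry CategoryTheory TopologicalSpace Topology

universe u

namespace Groth.Agent.LocImm

variable {X Y : Scheme.{u}} (f : X ⟶ Y)

theorem isClosedImmersion_shrink {U : X.Opens} {V : Y.Opens} (h : U ≤ f ⁻¹ᵁ V)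
    (hc : IsClosedImmersion (f.resLE V U h)) {V' : Y.Opens} (hV : V' ≤ V) :
    IsClosedImmersion (f.resLE V' (U ⊓ f ⁻¹ᵁ V') inf_le_right) := by
  have sq : IsPullback (f.resLE V' (U ⊓ f ⁻¹ᵁ V') inf_le_right) (X.homOfLE inf_le_left)
      (Y.homOfLE hV) (f.resLE V U h) := by
    refine IsOpenImmersion.isPullback _ _ _ _ ?_ ?_
    · simp [← cancel_mono V.ι]
    · ext z
      simp [Scheme.Hom.resLE_preimage, Scheme.opensRange_homOfLE]
      exact ⟨fun ⟨a, ha, e⟩ => e ▸ ha, fun hz => ⟨⟨f z.1, h z.2⟩, hz, rfl⟩⟩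
  exact MorphismProperty.of_isPullback (P := @IsClosedImmersion) sq.flip hc

theorem isImmersion_of_isClosedImmersion_resLE {U : X.Opens} {V : Y.Opens} (h : U ≤ f ⁻¹ᵁ V)
    (hc : IsClosedImmersion (f.resLE V U h)) : IsImmersion (U.ι ≫ f) := by
  rw [← Scheme.Hom.resLE_comp_ι f h]
  infer_instance

theorem isLocalImmersionAt_iff (x : X) :
    SchLoc.IsLocalImmersionAt f x ↔ ∃ U : X.Opens, x ∈ U ∧ IsImmersion (U.ι ≫ f) := by
  constructor
  · rintro ⟨U, V, h, hx, hc⟩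
    exact ⟨U, hx, isImmersion_of_isClosedImmersion_resLE f h hc⟩
  · rintro ⟨U, hx, hi⟩
    have h : U ≤ f ⁻¹ᵁ (U.ι ≫ f).coborderRange := by
      intro z hz
      exact subset_coborder ⟨⟨z, hz⟩, rfl⟩
    refine ⟨U, (U.ι ≫ f).coborderRange, h, hx, ?_⟩
    have e : f.resLE _ U h = (U.ι ≫ f).liftCoborder := by
      rw [← cancel_mono (U.ι ≫ f).coborderRange.ι, Scheme.Hom.resLE_comp_ι,
        Scheme.Hom.liftCoborder_ι]
    rw [e]
    infer_instance

theorem surjective_stalkMap_of_isLocalImmersionAt {x : X} (h : SchLoc.IsLocalImmersionAt f x) :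
    Function.Surjective (f.stalkMap x) := by
  obtain ⟨U, hx, hi⟩ := (isLocalImmersionAt_iff f x).1 h
  have h2 := (U.ι ≫ f).stalkMap_surjective ⟨x, hx⟩
  rw [Scheme.Hom.stalkMap_comp] at h2
  intro s
  obtain ⟨a, ha⟩ := h2 (U.ι.stalkMap ⟨x, hx⟩ s)
  exact ⟨a, (asIso (U.ι.stalkMap ⟨x, hx⟩)).commRingCatIsoToRingEquiv.injective ha⟩

theorem isImmersion_of_cover
    (h : ∀ x, ∃ V : Y.Opens, f x ∈ V ∧ IsClosedImmersion (f ∣_ V)) : IsImmersion f := by
  choose V hV hc using h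
  let W : Y.Opens := ⨆ x, V x
  have hW : f ⁻¹ᵁ W = ⊤ := top_le_iff.1 fun x _ => Opens.mem_iSup.2 ⟨x, hV x⟩
  have hle : ∀ x, W.ι ''ᵁ (W.ι ⁻¹ᵁ V x) = V x := fun x => by
    rw [Scheme.Hom.image_preimage_eq_opensRange_inf, Scheme.Opens.opensRange_ι]
    exact inf_eq_right.2 (le_iSup V x)
  have : IsImmersion (f ∣_ W) := by
    refine (IsZariskiLocalAtTarget.iff_of_iSup_eq_top (P := @IsImmersion)
      (fun x => W.ι ⁻¹ᵁ V x) ?_).2 fun x => ?_
    · exact (Opens.map_iSup _ _).symm.trans W.ι_preimage_self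
    · rw [MorphismProperty.arrow_mk_iso_iff (P := @IsImmersion) (morphismRestrictRestrict _ _ _),
        MorphismProperty.arrow_mk_iso_iff (P := @IsImmersion) (morphismRestrictEq _ (hle x))]
      have := hc x
      infer_instance
  have h2 : IsImmersion ((f ∣_ W) ≫ W.ι) := inferInstance
  rwa [morphismRestrict_ι, hW, ← Scheme.topIso_hom,
    MorphismProperty.cancel_left_of_respectsIso (P := @IsImmersion)] at h2

theorem isClosedImmersion_morphismRestrict_of_eq {U : X.Opens} {V : Y.Opens} (h : U ≤ f ⁻¹ᵁ V)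
    (hc : IsClosedImmersion (f.resLE V U h)) (he : f ⁻¹ᵁ V ≤ U) : IsClosedImmersion (f ∣_ V) := by
  obtain rfl : U = f ⁻¹ᵁ V := le_antisymm h he
  rwa [Scheme.Hom.resLE_eq_morphismRestrict] at hc

theorem preimage_le_of_isClosedImmersion [IrreducibleSpace X] [IsSeparated f] {U : X.Opens}
    {V : Y.Opens} (h : U ≤ f ⁻¹ᵁ V) (hc : IsClosedImmersion (f.resLE V U h)) {x : X} (hx : x ∈ U) :
    f ⁻¹ᵁ V ≤ U := by
  have : IsClosedImmersion (X.homOfLE h ≫ f ∣_ V) := hc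
  have : IsClosedImmersion (X.homOfLE h) := IsClosedImmersion.of_comp _ (f ∣_ V)
  have hcl : IsClosed ((X.homOfLE h).opensRange : Set (f ⁻¹ᵁ V).toScheme) :=
    (X.homOfLE h).isClosedEmbedding.isClosed_range
  have hop : IsOpen ((X.homOfLE h).opensRange : Set (f ⁻¹ᵁ V).toScheme) :=
    (X.homOfLE h).opensRange.2
  have : Nonempty (f ⁻¹ᵁ V).toScheme := ⟨⟨x, h hx⟩⟩
  have : IrreducibleSpace (f ⁻¹ᵁ V).toScheme := (f ⁻¹ᵁ V).ι.isOpenEmbedding.irreducibleSpace
  have hu : ((X.homOfLE h).opensRange : Set (f ⁻¹ᵁ V).toScheme) = Set.univ :=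
    IsClopen.eq_univ ⟨hcl, hop⟩ ⟨X.homOfLE h ⟨x, hx⟩, ⟨_, rfl⟩⟩
  intro z hz
  have : (⟨z, hz⟩ : (f ⁻¹ᵁ V).toScheme) ∈ (X.homOfLE h).opensRange :=
    hu.symm.subset (Set.mem_univ _)
  rw [Scheme.opensRange_homOfLE] at this
  exact this

theorem isClosedImmersion_resLE_of_surjective {U : X.Opens} {V : Y.Opens} (hU : IsAffineOpen U)
    (hV : IsAffineOpen V) (h : U ≤ f ⁻¹ᵁ V) (hs : Function.Surjective (f.appLE V U h)) :
    IsClosedImmersion (f.resLE V U h) := by
  have : IsAffine U := hU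
  have : IsAffine V := hV
  refine IsClosedImmersion.of_surjective_of_isAffine _ ?_
  exact ((MorphismProperty.surjective CommRingCat).arrow_mk_iso_iff
    (arrowResLEAppIso f V U h)).2 hs

theorem isLocalImmersionAt_of_surjective [LocallyOfFiniteType f] (x : X)
    (hs : Function.Surjective (f.stalkMap x)) : SchLoc.IsLocalImmersionAt f x := by
  classical
  obtain ⟨V, hV, hyV, -⟩ := exists_isAffineOpen_mem_and_subset (Opens.mem_top (f x))
  obtain ⟨U, hU, hxU, hUV⟩ := exists_isAffineOpen_mem_and_subset (x := x) (U := f ⁻¹ᵁ V) hyV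
  have hfin := f.finiteType_appLE hV hU hUV
  let φ := (f.appLE V U hUV).hom
  let p := (hU.primeIdealOf ⟨x, hxU⟩).asIdeal
  let q := (hV.primeIdealOf ⟨f x, hyV⟩).asIdeal
  let := φ.toAlgebra
  let := TopCat.Presheaf.algebra_section_stalk X.presheaf (⟨x, hxU⟩ : U)
  let := TopCat.Presheaf.algebra_section_stalk Y.presheaf (⟨f x, hyV⟩ : V)
  have hlU : IsLocalization.AtPrime (X.presheaf.stalk x) p := hU.isLocalization_stalk _
  have hlV : IsLocalization.AtPrime (Y.presheaf.stalk (f x)) q := hV.isLocalization_stalk _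
  have comm : ∀ a, (f.stalkMap x).hom (algebraMap Γ(Y, V) (Y.presheaf.stalk (f x)) a) =
      algebraMap Γ(X, U) (X.presheaf.stalk x) (φ a) := by
    intro a
    change (f.stalkMap x).hom (Y.presheaf.germ V (f x) hyV a) =
      X.presheaf.germ U x hxU (f.appLE V U hUV a)
    rw [Scheme.Hom.appLE, CommRingCat.comp_apply, X.presheaf.germ_res_apply]
    exact Scheme.Hom.germ_stalkMap_apply f V x hyV a
  have hqp : ∀ a, a ∉ q → φ a ∉ p := fun a ha => by
    have h1 := ((IsLocalization.AtPrime.isUnit_to_map_iff (Y.presheaf.stalk (f x)) q a).2 ha).map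
      (f.stalkMap x).hom
    rw [comm] at h1
    exact (IsLocalization.AtPrime.isUnit_to_map_iff (X.presheaf.stalk x) p _).1 h1
  have key : ∀ b : Γ(X, U), ∃ (a : Γ(Y, V)) (s : Γ(Y, V)) (t : Γ(X, U)),
      s ∉ q ∧ t ∉ p ∧ t * (φ s * b) = t * φ a := by
    intro b
    obtain ⟨z, hz⟩ := hs (algebraMap Γ(X, U) (X.presheaf.stalk x) b)
    obtain ⟨⟨a, s⟩, has⟩ := IsLocalization.surj q.primeCompl z
    have h1 : algebraMap Γ(X, U) (X.presheaf.stalk x) (φ s.1 * b) =
        algebraMap Γ(X, U) (X.presheaf.stalk x) (φ a) := by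
      rw [map_mul, ← comm, ← comm, ← hz, ← has, map_mul, mul_comm]
    obtain ⟨t, ht⟩ := (IsLocalization.eq_iff_exists p.primeCompl _).1 h1
    exact ⟨a, s.1, t.1, s.2, t.2, ht⟩
  choose a s t hs' ht' hkey using key
  obtain ⟨G, hG⟩ : (⊤ : Subalgebra Γ(Y, V) Γ(X, U)).FG := hfin.1
  let S : Γ(Y, V) := ∏ b ∈ G, s b
  let h : Γ(X, U) := φ S * ∏ b ∈ G, t b
  have hS : S ∉ q := (hV.primeIdealOf _).2.prod_mem_iff.not.2 (by rintro ⟨b, -, hb⟩; exact hs' b hb)
  have hT : (∏ b ∈ G, t b) ∉ p :=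
    (hU.primeIdealOf _).2.prod_mem_iff.not.2 (by rintro ⟨b, -, hb⟩; exact ht' b hb)
  have hh : h ∉ p := fun hmem => ((hU.primeIdealOf _).2.mem_or_mem hmem).elim (hqp S hS) hT
  have hloc := hU.isLocalization_basicOpen h
  let L := Γ(X, X.basicOpen h)
  let ι := algebraMap Γ(X, U) L
  have hunit : IsUnit (ι h) := IsLocalization.Away.algebraMap_isUnit h
  have hSu : IsUnit (ι (φ S)) := (IsUnit.mul_iff.1 (by rw [← map_mul]; exact hunit)).1
  have hTu : IsUnit (ι (∏ b ∈ G, t b)) := (IsUnit.mul_iff.1 (by rw [← map_mul]; exact hunit)).2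
  have mem : ∀ b : Γ(X, U), ∃ (c : Γ(Y, V)) (N : ℕ), ι (φ S) ^ N * ι b = ι (φ c) := by
    intro b
    have hb : b ∈ Algebra.adjoin Γ(Y, V) (G : Set Γ(X, U)) := hG ▸ Algebra.mem_top
    induction hb using Algebra.adjoin_induction with
    | mem b hb =>
      obtain ⟨S', hS'⟩ := Finset.dvd_prod_of_mem s (Finset.mem_coe.1 hb)
      have htu : IsUnit (ι (t b)) :=
        isUnit_of_dvd_unit (map_dvd ι (Finset.dvd_prod_of_mem t (Finset.mem_coe.1 hb))) hTu
      refine ⟨S' * a b, 1, htu.mul_left_cancel ?_⟩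
      have e : ι (t b) * (ι (φ (s b)) * ι b) = ι (t b) * ι (φ (a b)) := by
        rw [← map_mul, ← map_mul, hkey, map_mul]
      rw [pow_one, show S = s b * S' from hS', map_mul, map_mul]
      simp only [map_mul]
      linear_combination ι (φ S') * e
    | algebraMap r => exact ⟨r, 0, by simp [RingHom.algebraMap_toAlgebra]⟩
    | add u v _ _ hu hv =>
      obtain ⟨c, N, hc⟩ := hu
      obtain ⟨d, M, hd⟩ := hv
      refine ⟨S ^ M * c + S ^ N * d, N + M, ?_⟩
      simp only [map_add, map_mul, map_pow, ← hc, ← hd]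
      ring
    | mul u v _ _ hu hv =>
      obtain ⟨c, N, hc⟩ := hu
      obtain ⟨d, M, hd⟩ := hv
      refine ⟨c * d, N + M, ?_⟩
      simp only [map_mul, ← hc, ← hd]
      ring
  obtain ⟨c, N, hc⟩ := mem h
  let g := S * c
  have hgu : IsUnit (ι (φ g)) := by
    rw [map_mul, map_mul, ← hc]
    exact hSu.mul ((hSu.pow N).mul hunit)
  have hxh : x ∈ X.basicOpen h := by
    rw [Scheme.mem_basicOpen _ _ _ hxU]
    exact (IsLocalization.AtPrime.isUnit_to_map_iff (X.presheaf.stalk x) p h).2 hh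
  have hle : X.basicOpen h ≤ f ⁻¹ᵁ Y.basicOpen g := by
    intro z hz
    have hzU : z ∈ U := X.basicOpen_le h hz
    have h1 : z ∈ X.basicOpen (φ g) := by
      rw [Scheme.mem_basicOpen _ _ _ hzU,
        ← X.presheaf.germ_res_apply (homOfLE (X.basicOpen_le h)) z hz (φ g)]
      exact hgu.map _
    rw [Scheme.basicOpen_appLE] at h1
    exact h1.2
  refine ⟨X.basicOpen h, Y.basicOpen g, hle, hxh,
    isClosedImmersion_resLE_of_surjective f (hU.basicOpen h) (hV.basicOpen g) hle ?_⟩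
  let ψ := (f.appLE (Y.basicOpen g) (X.basicOpen h) hle).hom
  have hψ : ∀ v, ψ (Y.presheaf.map (homOfLE (Y.basicOpen_le g)).op v) = ι (φ v) := fun v => by
    change (Y.presheaf.map _ ≫ f.appLE _ _ _) v =
      (f.appLE V U hUV ≫ X.presheaf.map (homOfLE (X.basicOpen_le h)).op) v
    rw [Scheme.Hom.map_appLE, Scheme.Hom.appLE_map]
  have hlg := hV.isLocalization_basicOpen g
  have hgU : IsUnit (algebraMap Γ(Y, V) Γ(Y, Y.basicOpen g) g) :=
    IsLocalization.Away.algebraMap_isUnit g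
  have hcU : IsUnit (algebraMap Γ(Y, V) Γ(Y, Y.basicOpen g) c) :=
    (IsUnit.mul_iff.1 (by rw [← map_mul]; exact hgU)).2
  have hSU : IsUnit (algebraMap Γ(Y, V) Γ(Y, Y.basicOpen g) S) :=
    (IsUnit.mul_iff.1 (by rw [← map_mul]; exact hgU)).1
  have hrange : ∀ b, ∃ v, ψ v = ι b := fun b => by
    obtain ⟨d, M, hd⟩ := mem b
    obtain ⟨w, hw⟩ := (hSU.pow M).exists_right_inv
    refine ⟨w * algebraMap Γ(Y, V) Γ(Y, Y.basicOpen g) d, (hSu.pow M).mul_left_cancel ?_⟩
    rw [hd, ← map_pow, ← map_pow, ← hψ, ← hψ, ← map_mul]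
    congr 1
    change algebraMap Γ(Y, V) _ (S ^ M) * _ = algebraMap Γ(Y, V) _ d
    rw [map_pow, ← mul_assoc, hw, one_mul]
  intro z
  obtain ⟨⟨b, k⟩, hk⟩ := IsLocalization.surj (Submonoid.powers h) z
  obtain ⟨j, hj⟩ := k.2
  obtain ⟨v, hv⟩ := hrange b
  have hci : IsUnit (algebraMap Γ(Y, V) Γ(Y, Y.basicOpen g) c) := hcU
  obtain ⟨w, hw⟩ := (hci.pow j).exists_right_inv
  refine ⟨v * w * (algebraMap Γ(Y, V) Γ(Y, Y.basicOpen g) S) ^ (N * j), ?_⟩
  change ψ _ = z
  refine (hunit.pow j).mul_left_cancel ?_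
  have e1 : ψ (algebraMap Γ(Y, V) Γ(Y, Y.basicOpen g) c) ^ j * ψ w = 1 := by
    rw [← map_pow, ← map_mul, hw, map_one]
  have e2 : ψ (algebraMap Γ(Y, V) Γ(Y, Y.basicOpen g) c) = ι (φ S) ^ N * ι h := by
    rw [hc]; exact hψ c
  have e3 : ψ (algebraMap Γ(Y, V) Γ(Y, Y.basicOpen g) S) = ι (φ S) := hψ S
  have e4 : ι h ^ j * z = ι b := by
    rw [← map_pow, show h ^ j = k.1 from hj, mul_comm]; exact hk
  rw [e4, map_mul ψ, map_mul ψ, map_pow ψ, hv, e3, pow_mul]
  calc ι h ^ j * (ι b * ψ w * (ι (φ S) ^ N) ^ j)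
      = ι b * ((ι (φ S) ^ N * ι h) ^ j * ψ w) := by ring
    _ = ι b := by rw [← e2, e1, mul_one]

theorem isLocalIsoAt_of_isIso [LocallyOfFiniteType f] {x : X} [Y.IsGermInjectiveAt (f x)]
    [IsIso (f.stalkMap x)] : SchLoc.IsLocalIsoAt f x := by
  obtain ⟨U, V, h, hx, hc⟩ := isLocalImmersionAt_of_surjective f x
    (asIso (f.stalkMap x)).commRingCatIsoToRingEquiv.surjective
  obtain ⟨V', hy, hV', hle, hinj⟩ := Y.exists_le_and_germ_injective (f x) V (h hx)
  let U' := U ⊓ f ⁻¹ᵁ V'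
  have hc' := isClosedImmersion_shrink f h hc hle
  have : IsAffine V' := hV'
  have : IsClosedImmersion (f.resLE V' U' inf_le_right) := hc'
  have hU' : IsAffine U' := isAffine_of_isAffineHom (f.resLE V' U' inf_le_right)
  have happ : Function.Injective (f.appLE V' U' inf_le_right) := by
    intro a b hab
    apply hinj
    apply (asIso (f.stalkMap x)).commRingCatIsoToRingEquiv.injective
    change f.stalkMap x _ = f.stalkMap x _
    rw [Scheme.Hom.germ_stalkMap_apply f V' x hy, Scheme.Hom.germ_stalkMap_apply f V' x hy]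
    have := congrArg (X.presheaf.germ U' x ⟨hx, hy⟩) hab
    rwa [Scheme.Hom.appLE, CommRingCat.comp_apply, CommRingCat.comp_apply,
      X.presheaf.germ_res_apply, X.presheaf.germ_res_apply] at this
  have hi : IsIso (f.resLE V' U' inf_le_right) :=
    IsClosedImmersion.isIso_of_injective_of_isAffine
      (((MorphismProperty.injective CommRingCat).arrow_mk_iso_iff
        (arrowResLEAppIso f V' U' inf_le_right)).2 happ)
  refine ⟨U', ⟨hx, hy⟩, ?_⟩
  rw [← Scheme.Hom.resLE_comp_ι f (inf_le_right : U' ≤ f ⁻¹ᵁ V')]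
  infer_instance

end Groth.Agent.LocImm
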